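import Cfsg.Agent.BpExc.Pair

/-!
# Pair reduction for a finite family of torus elements (helper496, hub S2187)

Generalisation of `BpExc.Fr.exists_form` and `BpExc.Pair.pair_reduction` from one element to a finite family.

* `SxS cs h χ t`  : the roots centralised by all `t i`; `MMS` : the group generated by their root groups;
* `exists_form_set` : `c * s i = t i * c` for all `i`: then `c = m * k`, `m ∈ MMS t`, `k * s i = t i * k`, `k ∈ N`;
* `pair_reduction_set` : `σ (x i) = x i`, `z⁻¹ * x i * z = t i ∈ TL T`: then there are `z'`, `k`, `g'` with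
  `z'⁻¹ * x i * z' = t i`, `z'⁻¹ * σ z' = k`, `τ = conj k * σ` a frame automorphism fixing all `t i` and preserving the
  positive roots of `SxS t`; moreover `k ∈ N` (`Rp w k`) and `g' = repAut w ∘ g`.
-/

set_option autoImplicit false
set_option linter.unusedSectionVars false

namespace Cfsg.Agent.H496.Gen.PairSet

open CoxeterSystem Cfsg.Agent.ChevalleyStructure.CoxeterGeom Cfsg.Agent.Tits.Roots Cfsg.Agent.Tits.Core
  Cfsg.Agent.Tits.RootComb Cfsg.Agent.Tits.Exchange Cfsg.Agent.Nodes.Reps Cfsg.Agent.Nodes.BNOf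
  Cfsg.Agent.Nodes.StabComb Cfsg.Agent.Nodes.Bruhat Cfsg.Agent.Nodes.OppDec Cfsg.Agent.Nodes.LeviDec
  Cfsg.Agent.Nodes.NormalForm Cfsg.Agent.Nodes.SubComb Cfsg.Agent.KFacts.RgdField
  Cfsg.Agent.BpExc.TorCent Cfsg.Agent.BpExc.Tow Cfsg.Agent.BpExc.Fr Cfsg.Agent.BpExc

variable {I W Y : Type*} [Fintype I] [DecidableEq I] [Group W] [Group Y] {M : CoxeterMatrix I}
  {cs : CoxeterSystem M W} {A : I → I → ℤ} {h : IsCartan M A} {p : ℕ}

/-- the roots centralised by all `t i` -/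
def SxS {F ι : Type*} [Field F] (cs : CoxeterSystem M W) (h : IsCartan M A) (χ : (I → ℤ) → Y → F) (t : ι → Y) :
    Set (I → ℤ) :=
  {a | IsRoot cs h a ∧ ∀ i, χ a (t i) = 1}

/-- the group generated by the root groups centralised by all `t i` -/
def MMS {F ι : Type*} [Field F] (cs : CoxeterSystem M W) (h : IsCartan M A) (X : (I → ℤ) → Subgroup Y)
    (χ : (I → ℤ) → Y → F) (t : ι → Y) : Subgroup Y := RGD.Sup X (SxS cs h χ t)

/-! ### finite level -/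

section Fin

variable {T : Subgroup Y} {n : I → Y} {X : (I → ℤ) → Subgroup Y} (R : RGD cs h p T n X)

include R

theorem conj_form_set [Finite W] {ι : Type*} {s t : ι → Y} (hs : ∀ i, s i ∈ T) (ht : ∀ i, t i ∈ T) {c : Y}
    (hc : c ∈ GG cs h T X) (e : ∀ i, c * s i = t i * c) :
    ∃ u ∈ RGD.Sup (fun x => X x ⊓ Subgroup.centralizer (Set.range t)) (RGD.Pos cs h),
      ∃ w k, Rp cs R.nsys w k ∧ (∀ i, k * s i = t i * k) ∧
      ∃ v ∈ RGD.Sup (fun x => X x ⊓ Subgroup.centralizer (Set.range s)) (RGD.Pos cs h), c = u * k * v := by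
  obtain ⟨w, hw⟩ := (mem_GG R).1 hc
  obtain ⟨u, hu, k, hk, v, hv, rfl⟩ := exists_normal_form R hw
  have key := fun i => conj_form' R (hs i) (ht i) hu hk hv (e i)
  have hv' : v ∈ RGD.Sup X (RGD.Pos cs h) :=
    RGD.Sup_mono (S := NW cs h w) (S' := RGD.Pos cs h) (fun x hx => ⟨hx.1, hx.2.1⟩) hv
  refine ⟨u, ?_, w, k, hk, fun i => (key i).2.1, v, ?_, rfl⟩
  · rw [← centralizer_U R (Set.range_subset_iff.2 ht)]
    refine ⟨hu, Subgroup.mem_centralizer_iff.2 ?_⟩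
    rintro _ ⟨i, rfl⟩
    exact (key i).1
  · rw [← centralizer_U R (Set.range_subset_iff.2 hs)]
    refine ⟨hv', Subgroup.mem_centralizer_iff.2 ?_⟩
    rintro _ ⟨i, rfl⟩
    exact (key i).2.2

end Fin

/-! ### in the union -/

section Lim

variable {J : Type*} [Preorder J] {T : J → Subgroup Y} {n : I → Y} {X : J → (I → ℤ) → Subgroup Y}
  (H : Tow cs h p T n X) {F : Type*} [Field F] {xx : (I → ℤ) → F → Y} {χ : (I → ℤ) → Y → F}
  (C : Coords cs h (TL T) n (XL X) xx χ) {ι : Type*}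

include H in
/-- finitely many elements lie on one level -/
theorem exists_level [Finite ι] {t : ι → Y} (ht : ∀ i, t i ∈ TL T) : ∃ j, ∀ i, t i ∈ T j := by
  have := H.ne
  have hd := H.dir
  choose f hf using fun i => H.mem_TL.1 (ht i)
  have hdir : IsDirected J (· ≤ ·) := ⟨fun a b => by
    obtain ⟨c, h1, h2⟩ := hd a b
    exact ⟨c, h1, h2⟩⟩
  obtain ⟨j, hj⟩ := Finite.exists_le f
  exact ⟨j, fun i => H.monoT (hj i) (hf i)⟩

include C

theorem MMS_le_centralizer {t : ι → Y} (ht : ∀ i, t i ∈ TL T) :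
    MMS cs h (XL X) χ t ≤ Subgroup.centralizer (Set.range t) := by
  refine RGD.Sup_le fun a ha => ?_
  intro u hu
  rw [Subgroup.mem_centralizer_iff]
  rintro _ ⟨i, rfl⟩
  have h1 := X_le_centralizer C (ht i) (⟨ha.1, ha.2 i⟩ : a ∈ Sx cs h χ (t i)) hu
  exact (Subgroup.mem_centralizer_singleton_iff.1 h1).symm

theorem MMS_comm {t : ι → Y} (ht : ∀ i, t i ∈ TL T) {y : Y} (hy : y ∈ MMS cs h (XL X) χ t) (i : ι) :
    y * t i = t i * y :=
  (Subgroup.mem_centralizer_iff.1 (MMS_le_centralizer C ht hy) _ ⟨i, rfl⟩).symm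

theorem Sup_centralizer_le_set {t : ι → Y} (ht : ∀ i, t i ∈ TL T) (S : Set (I → ℤ)) (hS : ∀ a ∈ S, IsRoot cs h a) :
    RGD.Sup (fun a => XL X a ⊓ Subgroup.centralizer (Set.range t)) S ≤ MMS cs h (XL X) χ t := by
  refine RGD.Sup_le fun a ha => ?_
  rintro u ⟨hu, hc⟩
  by_cases h1 : u = 1
  · rw [h1]; exact one_mem _
  · refine RGD.le_Sup (⟨hS a ha, fun i => ?_⟩ : a ∈ SxS cs h χ t) hu
    refine (mem_Sx_of_centralizer C (ht i) (hS a ha) hu h1 ?_).2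
    rw [Subgroup.mem_centralizer_singleton_iff]
    exact (Subgroup.mem_centralizer_iff.1 hc _ ⟨i, rfl⟩).symm

theorem SxS_neg (hA : ChAdd cs h (TL T) χ) {t : ι → Y} (ht : ∀ i, t i ∈ TL T) {a : I → ℤ}
    (ha : a ∈ SxS cs h χ t) : -a ∈ SxS cs h χ t :=
  ⟨ha.1.neg, fun i => (chi_neg C (ht i) hA ⟨ha.1, ha.2 i⟩).2⟩

include H in
/-- **Families of torus elements conjugate in `Y` are conjugate in `N`, precisely:** -/
theorem exists_form_set [Finite W] [Finite ι] {s t : ι → Y} (hs : ∀ i, s i ∈ TL T) (ht : ∀ i, t i ∈ TL T) {c : Y}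
    (hc : c ∈ GG cs h (TL T) (XL X)) (e : ∀ i, c * s i = t i * c) :
    ∃ m ∈ MMS cs h (XL X) χ t, ∃ w k, Rp cs H.nsys w k ∧ (∀ i, k * s i = t i * k) ∧ c = m * k := by
  obtain ⟨j1, h1⟩ := exists_level H hs
  obtain ⟨j2, h2⟩ := exists_level H ht
  obtain ⟨j3, h3⟩ := H.mem_GG.1 hc
  obtain ⟨j4, a1, a2⟩ := H.dir j1 j2
  obtain ⟨j, b1, b2⟩ := H.dir j3 j4
  obtain ⟨u, hu, w, k', hk, hks, v, hv, rfl⟩ := conj_form_set (H.rgd j) (fun i => H.monoT (a1.trans b2) (h1 i))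
    (fun i => H.monoT (a2.trans b2) (h2 i)) (H.mono_GG b1 h3) e
  have hle : ∀ {t : ι → Y}, (∀ i, t i ∈ TL T) →
      RGD.Sup (fun x => X j x ⊓ Subgroup.centralizer (Set.range t)) (RGD.Pos cs h) ≤ MMS cs h (XL X) χ t := by
    intro t ht
    refine le_trans ?_ (Sup_centralizer_le_set C ht (RGD.Pos cs h) fun a ha => ha.1)
    exact RGD.Sup_le fun a ha => le_trans (inf_le_inf_right _ (le_XL j a))
      (RGD.le_Sup (X := fun a => XL X a ⊓ Subgroup.centralizer (Set.range t)) ha)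
  have hkk : ∀ i, k' * s i * k'⁻¹ = t i := fun i => by rw [hks i]; group
  have hkL := H.rp_up hk
  refine ⟨u * (k' * v * k'⁻¹), mul_mem (hle ht hu) ?_, w, k', hkL, hks, by group⟩
  -- `k v k⁻¹ ∈ MMS t`
  have h4 : v ∈ MMS cs h (XL X) χ s := hle hs hv
  have h5 : MMS cs h (XL X) χ s ≤ (MMS cs h (XL X) χ t).comap (MulAut.conj k').toMonoidHom := by
    refine RGD.Sup_le fun a ha => ?_
    intro y hy
    have h6 : rep cs h w a ∈ SxS cs h χ t := by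
      refine ⟨ha.1.act w, fun i => ?_⟩
      have h7 := C.chi_rp H.nsys hkL ha.1 (hs i)
      rw [hkk] at h7
      rw [h7]; exact ha.2 i
    have h8 : k' * y * k'⁻¹ ∈ XL X (rep cs h w a) := by
      rw [← H.conj_rp hkL ha.1]
      exact conj_mem_cj.2 hy
    exact RGD.le_Sup h6 h8
  exact h5 h4

theorem mem_SxS {σ : MulAut Y} {g : (I → ℤ) ≃+ (I → ℤ)} (Fσ : Fr cs h (TL T) (XL X) σ g) {t : ι → Y}
    (ht : ∀ i, t i ∈ TL T) (hσt : ∀ i, σ (t i) = t i) (a : I → ℤ) : g a ∈ SxS cs h χ t ↔ a ∈ SxS cs h χ t := by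
  have key := fun i => Fσ.mem_Sx C (ht i) (hσt i) a
  constructor
  · rintro ⟨h1, h2⟩
    exact ⟨(Fσ.root a).1 h1, fun i => ((key i).1 ⟨h1, h2 i⟩).2⟩
  · rintro ⟨h1, h2⟩
    exact ⟨(Fσ.root a).2 h1, fun i => ((key i).2 ⟨h1, h2 i⟩).2⟩

theorem mem_MMS {σ : MulAut Y} {g : (I → ℤ) ≃+ (I → ℤ)} (Fσ : Fr cs h (TL T) (XL X) σ g) {t : ι → Y}
    (ht : ∀ i, t i ∈ TL T) (hσt : ∀ i, σ (t i) = t i) (y : Y) :
    σ y ∈ MMS cs h (XL X) χ t ↔ y ∈ MMS cs h (XL X) χ t :=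
  Fσ.mem_Sup (fun _ ha => ha.1) (mem_SxS C Fσ ht hσt) y

include H in
/-- the reflections of the roots of `SxS t` are represented in `MMS t` -/
theorem exists_rfl_MMS [Finite W] (hA : ChAdd cs h (TL T) χ) {t : ι → Y} (ht : ∀ i, t i ∈ TL T) {a : I → ℤ}
    (ha : a ∈ SxS cs h χ t) : ∃ w i, a = rep cs h w (sr i) ∧ ∃ m ∈ MMS cs h (XL X) χ t, Rp cs H.nsys (rfl' cs w i) m := by
  obtain ⟨⟨w, i, hw⟩, h2⟩ := id ha
  refine ⟨w, i, hw, ?_⟩
  obtain ⟨j⟩ := H.ne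
  obtain ⟨m, hm, hm'⟩ := TorCent.exists_rfl (H.rgd j) w i
  rw [← hw] at hm
  have hneg := SxS_neg C hA ht ha
  have h3 : (X j a ⊔ X j (-a)) ≤ MMS cs h (XL X) χ t :=
    sup_le ((le_XL j a).trans (RGD.le_Sup ha)) ((le_XL j _).trans (RGD.le_Sup hneg))
  have hTn : T j ≤ Subgroup.normalizer ((X j a ⊔ X j (-a) : Subgroup Y) : Set Y) := by
    intro s hs
    rw [mem_normalizer_iff_cj, cj_sup, (H.rgd j).tor a ha.1 s hs, (H.rgd j).tor (-a) ha.1.neg s hs]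
  have h4 : m ∈ ((T j ⊔ (X j a ⊔ X j (-a)) : Subgroup Y) : Set Y) := hm
  rw [Subgroup.coe_mul_of_left_le_normalizer_right _ _ hTn, Set.mem_mul] at h4
  obtain ⟨s, hs, u, hu, e⟩ := h4
  refine ⟨u, h3 hu, H.rp_up (j := j) ?_⟩
  have h5 := (rp_of_mem (cs := cs) (hN := (H.rgd j).nsys) (inv_mem hs)).mul hm'
  rw [one_mul] at h5
  have h6 : s⁻¹ * m = u := by rw [← e]; group
  rwa [h6] at h5

include H in
/-- **The pair reduction for a family.** -/
theorem pair_reduction_set [Finite W] [Finite ι] (hA : ChAdd cs h (TL T) χ) (hG : GG cs h (TL T) (XL X) = ⊤)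
    {σ : MulAut Y} {g : (I → ℤ) ≃+ (I → ℤ)} (Fσ : Fr cs h (TL T) (XL X) σ g) {x t : ι → Y} {z : Y}
    (hσx : ∀ i, σ (x i) = x i) (hz : ∀ i, z⁻¹ * x i * z = t i) (ht : ∀ i, t i ∈ TL T)
    (hL : ∀ (k : Y) (g' : (I → ℤ) ≃+ (I → ℤ)), Fr cs h (TL T) (XL X) (MulAut.conj k * σ) g' →
      (∀ i, (MulAut.conj k * σ) (t i) = t i) → ∀ m ∈ MMS cs h (XL X) χ t, ∃ y ∈ MMS cs h (XL X) χ t,
      m = y⁻¹ * (MulAut.conj k * σ) y) :
    ∃ (z' k : Y) (w : W), Rp cs H.nsys w k ∧ (∀ i, z'⁻¹ * x i * z' = t i) ∧ z'⁻¹ * σ z' = k ∧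
      Fr cs h (TL T) (XL X) (MulAut.conj k * σ) (g.trans (repAut cs h w)) ∧ (∀ i, (MulAut.conj k * σ) (t i) = t i) ∧
      ∀ a ∈ SxS cs h χ t, 0 ≤ a → 0 ≤ rep cs h w (g a) := by
  -- `c σ(t) c⁻¹ = t`
  have e1 : ∀ i, z⁻¹ * σ z * σ (t i) = t i * (z⁻¹ * σ z) := by
    intro i
    have h1 : σ (t i) = (σ z)⁻¹ * x i * σ z := by rw [← hz i, map_mul, map_mul, map_inv, hσx]
    rw [h1, ← hz i]; group
  obtain ⟨m, hm, w, k, hk, hkt, hc⟩ := exists_form_set H C (fun i => (Fσ.tor (t i)).2 (ht i)) ht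
    (c := z⁻¹ * σ z) (by rw [hG]; exact Subgroup.mem_top _) e1
  -- the frame automorphism `τ₀ = conj k * σ`
  have F0 := (Fr.conj H hk).mul Fσ
  have ht0 : ∀ i, (MulAut.conj k * σ) (t i) = t i := by
    intro i
    show k * σ (t i) * k⁻¹ = t i
    rw [hkt]; group
  -- adjustment of the positive system
  let V : Subgroup W :=
    { carrier := {v | ∃ m ∈ MMS cs h (XL X) χ t, Rp cs H.nsys v m}
      one_mem' := ⟨1, one_mem _, rp_one⟩
      mul_mem' := by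
        rintro a b ⟨m, hm, hm'⟩ ⟨m', hm1, hm2⟩
        exact ⟨m * m', mul_mem hm hm1, hm'.mul hm2⟩
      inv_mem' := by
        rintro a ⟨m, hm, hm'⟩
        exact ⟨m⁻¹, inv_mem hm, hm'.inv⟩ }
  -- the action of `g⁻¹` on the reflections: adjustment on the left
  have hV : ∀ a ∈ SxS cs h χ t, ∃ w i, a = rep cs h w (sr i) ∧ rfl' cs w i ∈ V :=
    fun a ha => exists_rfl_MMS H C hA ht ha
  obtain ⟨v, ⟨m₁, hm₁, hv⟩, hpos⟩ := Fr.exists_adjust (cs := cs) (h := h) (SxS cs h χ t) V hV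
    (g.trans (repAut cs h w)).symm (fun a ha => by
      have h1 : IsRoot cs h ((g.trans (repAut cs h w)) ((g.trans (repAut cs h w)).symm a)) := by
        rw [AddEquiv.apply_symm_apply]; exact ha
      exact (F0.root _).1 h1)
  -- `v⁻¹ g₀` preserves the positive roots of `SxS t`
  have hm₁t := fun i => MMS_comm C ht (inv_mem hm₁) i
  have F1 := (Fr.conj H hv.inv).mul F0
  have e2 : MulAut.conj m₁⁻¹ * (MulAut.conj k * σ) = MulAut.conj (m₁⁻¹ * k) * σ := by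
    rw [← mul_assoc, ← map_mul]
  rw [e2] at F1
  have e3 : (g.trans (repAut cs h w)).trans (repAut cs h v⁻¹) = g.trans (repAut cs h (v⁻¹ * w)) := by
    ext1 a
    show rep cs h v⁻¹ (rep cs h w (g a)) = rep cs h (v⁻¹ * w) (g a)
    rw [rep_mul_apply]
  rw [e3] at F1
  have ht1 : ∀ i, (MulAut.conj (m₁⁻¹ * k) * σ) (t i) = t i := by
    intro i
    rw [← e2]
    show m₁⁻¹ * ((MulAut.conj k * σ) (t i)) * m₁⁻¹⁻¹ = t i
    rw [ht0, hm₁t, mul_inv_cancel_right]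
  have hm' : m * m₁ ∈ MMS cs h (XL X) χ t := mul_mem hm hm₁
  obtain ⟨y, hy, ey⟩ := hL _ _ F1 ht1 _ hm'
  have hyt := fun i => MMS_comm C ht hy i
  refine ⟨z * y⁻¹, m₁⁻¹ * k, v⁻¹ * w, hv.inv.mul hk, ?_, ?_, F1, ht1, ?_⟩
  · intro i
    calc (z * y⁻¹)⁻¹ * x i * (z * y⁻¹) = y * (z⁻¹ * x i * z) * y⁻¹ := by group
      _ = t i := by rw [hz, hyt]; group
  · have h3 : z⁻¹ * σ z = y⁻¹ * (m₁⁻¹ * k) * σ y := by
      have h5 : m * m₁ = y⁻¹ * (m₁⁻¹ * k * σ y * (m₁⁻¹ * k)⁻¹) := ey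
      have h4 : m = y⁻¹ * (m₁⁻¹ * k * σ y * (m₁⁻¹ * k)⁻¹) * m₁⁻¹ := by rw [← h5]; group
      rw [hc, h4]; group
    rw [map_mul, map_inv]
    calc (z * y⁻¹)⁻¹ * (σ z * (σ y)⁻¹) = y * (z⁻¹ * σ z) * (σ y)⁻¹ := by group
      _ = m₁⁻¹ * k := by rw [h3]; group
  · -- positivity: `v⁻¹ g₀` maps the positive roots of `SxS` to positive roots
    intro a ha h0
    have h1 : rep cs h (v⁻¹ * w) (g a) ∈ SxS cs h χ t := (mem_SxS C F1 ht ht1 a).2 ha
    rcases h1.1.pos_or_neg with h2 | h2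
    · exact h2
    · exfalso
      -- `b = -(v⁻¹ g₀ a)` is a positive root of `SxS t`, `g₀⁻¹ v b = -a`
      have h3 := hpos _ (SxS_neg C hA ht h1) (neg_nonneg.2 h2)
      have h4 : (g.trans (repAut cs h w)).symm (rep cs h v (-(rep cs h (v⁻¹ * w) (g a)))) = -a := by
        rw [AddEquiv.symm_apply_eq]
        show rep cs h v (-(rep cs h (v⁻¹ * w) (g a))) = rep cs h w (g (-a))
        rw [map_neg, map_neg, map_neg, ← rep_mul_apply, mul_inv_cancel_left]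
      rw [h4] at h3
      have h5 : a = 0 := le_antisymm (neg_nonneg.1 h3) h0
      exact ha.1.ne_zero h5

end Lim

end Cfsg.Agent.H496.Gen.PairSet
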